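import Cfsg.Agent.Blocks.Twist
import Cfsg.Agent.Characters.Core

/-!
# Traces of idempotent matrices over the local ring (helper651)

* `sum_perm_eq`: if `g` acts on the finite set `Y`, `x` is the `p`-part of `g`, `E`, `F` are idempotent
  matrices over the local ring commuting with `g`, `F` is supported on the fixed points of `x` and
  `E ≡ F` there modulo the local ideal, then `tr (g E) = tr (g F)`.
* `isCharacter_sum_perm`, `isCharacter_avg`: characters from commuting idempotents.
-/

set_option autoImplicit false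
set_option linter.unusedSectionVars false
set_option linter.unusedVariables false

open Cfsg Cfsg.Agent.Blocks.LocalRing

namespace Cfsg.Agent.H651

section perm

variable {Y : Type*} [Fintype Y] [DecidableEq Y]

/-- The permutation matrix. -/
def pm (K : Type*) [Zero K] [One K] (σ : Equiv.Perm Y) : Matrix Y Y K :=
  Matrix.of fun a b => if a = σ b then 1 else 0

theorem pm_apply {K : Type*} [Zero K] [One K] (σ : Equiv.Perm Y) (a b : Y) :
    pm K σ a b = if a = σ b then 1 else 0 := rfl

theorem pm_mul_apply {K : Type*} [Semiring K] (σ : Equiv.Perm Y) (E : Matrix Y Y K) (a b : Y) :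
    (pm K σ * E) (σ a) b = E a b := by
  rw [Matrix.mul_apply, Finset.sum_eq_single a]
  · rw [pm_apply, if_pos rfl, one_mul]
  · intro c _ hc
    rw [pm_apply, if_neg (fun h => hc (σ.injective h).symm), zero_mul]
  · exact fun h => absurd (Finset.mem_univ _) h

theorem mul_pm_apply {K : Type*} [Semiring K] (σ : Equiv.Perm Y) (E : Matrix Y Y K) (a b : Y) :
    (E * pm K σ) a b = E a (σ b) := by
  rw [Matrix.mul_apply, Finset.sum_eq_single (σ b)]
  · rw [pm_apply, if_pos rfl, mul_one]
  · intro c _ hc
    rw [pm_apply, if_neg hc, mul_zero]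
  · exact fun h => absurd (Finset.mem_univ _) h

theorem pm_comm {K : Type*} [Semiring K] {σ : Equiv.Perm Y} {E : Matrix Y Y K}
    (h : ∀ a b, E (σ a) (σ b) = E a b) : pm K σ * E = E * pm K σ := by
  ext a b
  obtain ⟨a, rfl⟩ := σ.surjective a
  rw [pm_mul_apply, mul_pm_apply, h]

theorem trace_pm_mul {K : Type*} [CommSemiring K] (σ : Equiv.Perm Y) (E : Matrix Y Y K) :
    (pm K σ * E).trace = ∑ a, E a (σ a) := by
  rw [Matrix.trace_mul_comm, Matrix.trace]
  exact Finset.sum_congr rfl fun a _ => mul_pm_apply σ E a a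

end perm

section units

variable {p : ℕ} {M : Ideal AlgInt} {Y : Type*} [Fintype Y] [DecidableEq Y]

/-- Congruence of matrices over the local ring. -/
def Cg (hM : IsPModular p M) (A B : Matrix Y Y (locRing hM)) : Prop :=
  (Ideal.Quotient.mk (locIdeal hM)).mapMatrix A = (Ideal.Quotient.mk (locIdeal hM)).mapMatrix B

variable {hM : IsPModular p M}

theorem cg_iff {A B : Matrix Y Y (locRing hM)} :
    Cg hM A B ↔ ∀ a b, MemLocalIdeal M ((A a b : ℂ) - (B a b : ℂ)) := by
  unfold Cg
  rw [← Matrix.ext_iff]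
  refine forall_congr' fun a => forall_congr' fun b => ?_
  rw [RingHom.mapMatrix_apply, RingHom.mapMatrix_apply, Matrix.map_apply, Matrix.map_apply,
    Ideal.Quotient.eq, mem_locIdeal]
  rfl

theorem isUnit_of_cg_one {U : Matrix Y Y (locRing hM)} (h : Cg hM U 1) : IsUnit U := by
  rw [Matrix.isUnit_iff_isUnit_det, isUnit_locRing_iff]
  intro hdet
  have h1 : Ideal.Quotient.mk (locIdeal hM) U.det = 1 := by
    rw [RingHom.map_det, h, map_one, Matrix.det_one]
  rw [Ideal.Quotient.eq_zero_iff_mem.2 hdet] at h1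
  have h3 : (1 : locRing hM) ∈ locIdeal hM := by
    rw [← Ideal.Quotient.eq_zero_iff_mem, map_one, ← h1]
  exact not_memLocalIdeal_one hM h3

theorem trace_map (A : Matrix Y Y (locRing hM)) :
    (A.map (locRing hM).subtype).trace = ((A.trace : locRing hM) : ℂ) := by
  rw [Matrix.trace, Matrix.trace]
  exact (map_sum (locRing hM).subtype _ _).symm

end units

section main

variable {p : ℕ} {M : Ideal AlgInt} {Y : Type*} [Fintype Y] [DecidableEq Y]
variable {N : Type*} [Group N]

/-- The diagonal matrix of the characteristic function of the fixed points. -/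
noncomputable def fixMat (hM : IsPModular p M) (ξ : Equiv.Perm Y) : Matrix Y Y (locRing hM) :=
  Matrix.diagonal fun a => if ξ a = a then 1 else 0

/-- The vanishing case. -/
theorem trace_eq_zero_of_cg (hM : IsPModular p M) (φ : N →* Equiv.Perm Y) {g x : N}
    (hx : IsPPart p g x) (E : Matrix Y Y (locRing hM)) (hEE : E * E = E)
    (hEg : pm (locRing hM) (φ g) * E = E * pm (locRing hM) (φ g))
    (hE : Cg hM (fixMat hM (φ x) * E * fixMat hM (φ x)) 0) :
    (pm (locRing hM) (φ g) * E).trace = 0 := by
  have hp : p.Prime := hM.1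
  have : Fact p.Prime := ⟨hp⟩
  obtain ⟨ζ, hζp, hζ1⟩ : ∃ ζ : ℂ, ζ ^ p = 1 ∧ ζ ≠ 1 := by
    have h := Complex.isPrimitiveRoot_exp p hp.ne_zero
    exact ⟨_, h.pow_eq_one, h.ne_one hp.one_lt⟩
  have hζ0 : ζ ≠ 0 := by
    rintro rfl
    rw [zero_pow hp.ne_zero] at hζp
    exact zero_ne_one hζp
  obtain ⟨f, hf1, hf2⟩ := Blocks.Twist.exists_twist φ hx hζp
  have hfint : ∀ z, MemLocalRing M (f z) := fun z =>
    memLocalRing_of_isIntegral hM (IsIntegral.of_pow hp.pos (by rw [hf1]; exact isIntegral_one))
  -- the diagonal matrix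
  set T : Matrix Y Y (locRing hM) :=
    Matrix.diagonal fun a => if φ x a = a then 0 else ⟨f a, hfint a⟩ with hT
  set J : Matrix Y Y (locRing hM) := fixMat hM (φ x) with hJ
  have hJJ : J * J = J := by
    rw [hJ, fixMat, Matrix.diagonal_mul_diagonal]
    congr 1
    funext a
    split_ifs
    · exact mul_one 1
    · exact mul_zero 0
  have hTJ : Cg hM T (1 - J) := by
    rw [cg_iff]
    intro a b
    rw [hT, hJ, fixMat, Matrix.sub_apply]
    by_cases hab : a = b
    · subst hab
      rw [Matrix.diagonal_apply_eq, Matrix.diagonal_apply_eq, Matrix.one_apply_eq]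
      by_cases h : φ x a = a
      · rw [if_pos h, if_pos h, sub_self]
        simpa using memLocalIdeal_zero hM
      · rw [if_neg h, if_neg h, sub_zero]
        exact Blocks.Twist.memLocalIdeal_sub_one_of_pow_eq_one hM (hf1 a)
    · rw [Matrix.diagonal_apply_ne _ hab, Matrix.diagonal_apply_ne _ hab, Matrix.one_apply_ne hab]
      simpa using memLocalIdeal_zero hM
  have hU : IsUnit (E * T * E + (1 - E)) := by
    set n : Matrix Y Y (locRing hM) := E * J * E with hn
    set q := (Ideal.Quotient.mk (locIdeal hM)).mapMatrix (m := Y) with hq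
    have h1 : q (E * T * E + (1 - E)) = 1 - q n := by
      have h2 : q T = 1 - q J := by
        have := hTJ
        unfold Cg at this
        rw [this, map_sub, map_one]
      have h3 : q E * q E = q E := by rw [← map_mul, hEE]
      rw [map_add, map_sub, map_mul, map_mul, map_one, h2, hn, map_mul, map_mul, mul_sub, mul_one,
        sub_mul, h3]
      abel
    have h2 : q n * q n = 0 := by
      have h3 : q J * q E * q J = 0 := by
        have := hE
        unfold Cg at this
        rwa [map_mul, map_mul, map_zero] at this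
      have h4 : q E * q E = q E := by rw [← map_mul, hEE]
      rw [hn, map_mul, map_mul]
      calc q E * q J * q E * (q E * q J * q E) = q E * (q J * (q E * q E) * q J) * q E := by
            simp only [mul_assoc]
        _ = 0 := by rw [h4, h3, mul_zero, zero_mul]
    have h3 : Cg hM ((E * T * E + (1 - E)) * (1 + n)) 1 := by
      unfold Cg
      change q _ = q 1
      rw [map_mul, h1, map_add, map_one, sub_mul, one_mul, mul_add, mul_one, h2]
      abel
    have h4 := isUnit_of_cg_one h3
    exact isUnit_of_mul_isUnit_left h4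
  -- pass to `ℂ`
  set s := (locRing hM).subtype.mapMatrix (m := Y) with hs
  have hsp : s (pm (locRing hM) (φ g)) = pm ℂ (φ g) := by
    ext a b
    change (((pm (locRing hM) (φ g) a b : locRing hM)) : ℂ) = pm ℂ (φ g) a b
    rw [pm_apply, pm_apply]
    split_ifs <;> rfl
  have hTg : pm ℂ (φ g) * s T = ζ⁻¹ • (s T * pm ℂ (φ g)) := by
    ext a b
    obtain ⟨a, rfl⟩ := (φ g).surjective a
    rw [pm_mul_apply, Matrix.smul_apply, mul_pm_apply, smul_eq_mul]
    change ((T a b : locRing hM) : ℂ) = ζ⁻¹ * ((T (φ g a) (φ g b) : locRing hM) : ℂ)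
    rw [hT]
    by_cases hab : a = b
    · subst hab
      rw [Matrix.diagonal_apply_eq, Matrix.diagonal_apply_eq]
      have hcomm : φ x * φ g = φ g * φ x := by
        rw [← map_mul, ← map_mul]
        congr 1
        obtain ⟨y, rfl, hxy, -, -⟩ := hx
        exact ((Commute.refl x).mul_right hxy).eq
      have h1 : φ x (φ g a) = φ g a ↔ φ x a = a := by
        have h2 : φ x (φ g a) = φ g (φ x a) := by
          have := congrArg (fun τ : Equiv.Perm Y => τ a) hcomm
          exact this
        rw [h2]
        exact (φ g).injective.eq_iff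
      by_cases h : φ x a = a
      · rw [if_pos h, if_pos (h1.2 h)]
        simp
      · rw [if_neg h, if_neg (fun h' => h (h1.1 h'))]
        change f a = ζ⁻¹ * f (φ g a)
        rw [hf2 a h, ← mul_assoc, inv_mul_cancel₀ hζ0, one_mul]
    · rw [Matrix.diagonal_apply_ne _ hab,
        Matrix.diagonal_apply_ne _ (fun h => hab ((φ g).injective h))]
      simp
  have key := Blocks.Twist.trace_zero_of_twist (A := Matrix Y Y ℂ) (Matrix.traceLinearMap Y ℂ ℂ)
    (fun a b => Matrix.trace_mul_comm a b) (h := pm ℂ (φ g)) (π := s E) (T := s T) (ζ := ζ⁻¹)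
    (fun h => hζ1 (inv_eq_one.1 h)) (by rw [← map_mul, hEE])
    (by rw [← hsp, ← map_mul, ← map_mul, hEg]) hTg (by
      have := hU.map s
      rwa [map_add, map_mul, map_mul, map_sub, map_one] at this)
  rw [Matrix.traceLinearMap_apply, ← hsp, ← map_mul] at key
  have h5 := trace_map (hM := hM) (pm (locRing hM) (φ g) * E)
  have h6 : ((pm (locRing hM) (φ g) * E).trace : ℂ) = ((0 : locRing hM) : ℂ) := by
    rw [← h5]
    exact key
  exact Subtype.ext h6

/-- **Lemma T**, matrix form. -/
theorem trace_eq_of_cg (hM : IsPModular p M) (φ : N →* Equiv.Perm Y) {g x : N}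
    (hx : IsPPart p g x) (E F : Matrix Y Y (locRing hM)) (hEE : E * E = E) (hFF : F * F = F)
    (hEg : pm (locRing hM) (φ g) * E = E * pm (locRing hM) (φ g))
    (hFg : pm (locRing hM) (φ g) * F = F * pm (locRing hM) (φ g))
    (hJF : fixMat hM (φ x) * F = F) (hFJ : F * fixMat hM (φ x) = F)
    (hE : Cg hM (fixMat hM (φ x) * E * fixMat hM (φ x)) F) :
    (pm (locRing hM) (φ g) * E).trace = (pm (locRing hM) (φ g) * F).trace := by
  set J : Matrix Y Y (locRing hM) := fixMat hM (φ x) with hJ
  set h := pm (locRing hM) (φ g) with hh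
  set q := (Ideal.Quotient.mk (locIdeal hM)).mapMatrix (m := Y) with hq
  have hE' : q (J * E * J) = q F := hE
  set X := F * E * F with hX
  have hqX : q X = q F := by
    have h1 : X = F * (J * E * J) * F := by
      have h2 : F * (J * E * J) * F = (F * J) * E * (J * F) := by simp only [mul_assoc]
      rw [h2, hFJ, hJF]
    rw [h1, map_mul, map_mul, hE', ← map_mul, ← map_mul, hFF, hFF]
  have hFX : F * X = X := by
    rw [hX, ← mul_assoc, ← mul_assoc, hFF]
  have hXF : X * F = X := by
    rw [hX, mul_assoc, hFF]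
  obtain ⟨u, hu⟩ : IsUnit (X + (1 - F)) := by
    refine isUnit_of_cg_one (hM := hM) ?_
    change q _ = q 1
    rw [map_add, hqX, map_sub]
    abel
  have hFu : F * (u : Matrix Y Y (locRing hM)) = X := by
    rw [hu, mul_add, hFX, mul_sub, mul_one, hFF, sub_self, add_zero]
  have huF : (u : Matrix Y Y (locRing hM)) * F = X := by
    rw [hu, add_mul, hXF, sub_mul, one_mul, hFF, sub_self, add_zero]
  set v : Matrix Y Y (locRing hM) := ((u⁻¹ : (Matrix Y Y (locRing hM))ˣ) :
    Matrix Y Y (locRing hM)) with hv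
  have huv : (u : Matrix Y Y (locRing hM)) * v = 1 := u.mul_inv
  have hvu : v * (u : Matrix Y Y (locRing hM)) = 1 := u.inv_mul
  have hvF : v * F = F * v := by
    calc v * F = v * (F * ((u : Matrix Y Y (locRing hM)) * v)) := by rw [huv, mul_one]
      _ = v * (F * (u : Matrix Y Y (locRing hM))) * v := by simp only [mul_assoc]
      _ = v * ((u : Matrix Y Y (locRing hM)) * F) * v := by rw [hFu, huF]
      _ = F * v := by rw [← mul_assoc v, hvu, one_mul]
  set w := v * F with hw
  have hwF : w * F = w := by rw [hw, mul_assoc, hFF]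
  have hFw : F * w = w := by rw [hvF, ← mul_assoc, hFF]
  have hXw : X * w = F := by
    rw [hw, ← mul_assoc, ← hFu, mul_assoc F, huv, mul_one, hFF]
  have hwX : w * X = F := by
    rw [hw, mul_assoc, hFX, ← huF, ← mul_assoc, hvu, one_mul]
  -- commutation with `h`
  have hhX : h * X = X * h := by
    rw [hX, ← mul_assoc, ← mul_assoc, hFg, mul_assoc F h, hEg, mul_assoc F (E * h), mul_assoc E h,
      hFg]
    simp only [mul_assoc]
  have hhu : h * (u : Matrix Y Y (locRing hM)) = (u : Matrix Y Y (locRing hM)) * h := by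
    rw [hu, mul_add, add_mul, hhX, mul_sub, sub_mul, hFg, mul_one, one_mul]
  have hhv : h * v = v * h := by
    calc h * v = v * ((u : Matrix Y Y (locRing hM)) * h) * v := by
          rw [← mul_assoc v, hvu, one_mul]
      _ = v * (h * (u : Matrix Y Y (locRing hM))) * v := by rw [hhu]
      _ = v * h := by rw [mul_assoc v, mul_assoc h, huv, mul_one]
  have hhw : h * w = w * h := by
    rw [hw, ← mul_assoc, hhv, mul_assoc, hFg, mul_assoc]
  -- the idempotent
  set E₀ := E * w * E with hE₀
  have hEE₀ : E * E₀ = E₀ := by rw [hE₀, ← mul_assoc, ← mul_assoc, hEE]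
  have hE₀E : E₀ * E = E₀ := by rw [hE₀, mul_assoc, hEE]
  have hwEw : w * E * w = w := by
    calc w * E * w = (w * F) * E * (F * w) := by rw [hwF, hFw]
      _ = w * (F * E * F) * w := by simp only [mul_assoc]
      _ = w := by rw [← hX, hwX, hFw]
  have hE₀E₀ : E₀ * E₀ = E₀ := by
    calc E₀ * E₀ = E * w * (E * E) * w * E := by rw [hE₀]; simp only [mul_assoc]
      _ = E * (w * E * w) * E := by rw [hEE]; simp only [mul_assoc]
      _ = E₀ := by rw [hwEw]
  have hhE₀ : h * E₀ = E₀ * h := by
    rw [hE₀]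
    calc h * (E * w * E) = (h * E) * w * E := by simp only [mul_assoc]
      _ = E * (h * w) * E := by rw [hEg]; simp only [mul_assoc]
      _ = E * w * (h * E) := by rw [hhw]; simp only [mul_assoc]
      _ = E * w * E * h := by rw [hEg]; simp only [mul_assoc]
  have htr : (h * E₀).trace = (h * F).trace := by
    calc (h * E₀).trace = ((h * E) * (w * E)).trace := by rw [hE₀]; simp only [mul_assoc]
      _ = (E * (h * (w * E))).trace := by rw [hEg, mul_assoc]
      _ = (h * w * (E * E)).trace := by
        rw [Matrix.trace_mul_comm]; simp only [mul_assoc]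
      _ = (h * (F * w) * E).trace := by rw [hEE, hFw]
      _ = (F * (h * w * E)).trace := by rw [← mul_assoc h, hFg]; simp only [mul_assoc]
      _ = (h * w * E * F).trace := by rw [Matrix.trace_mul_comm]
      _ = (h * ((w * F) * E * F)).trace := by rw [hwF]; simp only [mul_assoc]
      _ = (h * (w * X)).trace := by rw [hX]; simp only [mul_assoc]
      _ = (h * F).trace := by rw [hwX]
  have hvan : (h * (E - E₀)).trace = 0 := by
    refine trace_eq_zero_of_cg hM φ hx (E - E₀) ?_ ?_ ?_
    · rw [mul_sub, sub_mul, sub_mul, hEE, hE₀E, hEE₀, hE₀E₀, sub_self, sub_zero]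
    · rw [mul_sub, sub_mul, hEg, hhE₀]
    · have hqu : q (u : Matrix Y Y (locRing hM)) = 1 := by
        rw [hu, map_add, hqX, map_sub, map_one]
        abel
      have hqv : q v = 1 := by
        have h1 : q v * q (u : Matrix Y Y (locRing hM)) = 1 := by rw [← map_mul, hvu, map_one]
        rwa [hqu, mul_one] at h1
      have hqw : q w = q F := by rw [hw, map_mul, hqv, one_mul]
      have hJw : J * w = w := by rw [← hFw, ← mul_assoc, hJF]
      have hwJ : w * J = w := by rw [← hwF, mul_assoc, hFJ]
      have h1 : J * E₀ * J = (J * E * J) * w * (J * E * J) := by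
        calc J * E₀ * J = J * E * w * (E * J) := by rw [hE₀]; simp only [mul_assoc]
          _ = J * E * (J * w * J) * (E * J) := by rw [hJw, hwJ]
          _ = _ := by simp only [mul_assoc]
      change q (J * (E - E₀) * J) = q 0
      rw [mul_sub, sub_mul, map_sub, h1, map_mul (f := q) (J * E * J * w), map_mul (f := q)
        (J * E * J) w, hE', hqw, ← map_mul, ← map_mul, hFF, hFF, sub_self, map_zero]
  have h3 : h * E = h * E₀ + h * (E - E₀) := by rw [← mul_add, add_sub_cancel]
  rw [h3, Matrix.trace_add, hvan, add_zero, htr]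

/-- **Lemma T.** -/
theorem sum_perm_eq (hM : IsPModular p M) (φ : N →* Equiv.Perm Y) {g x : N}
    (hx : IsPPart p g x) (E F : Y → Y → ℂ)
    (hER : ∀ a b, MemLocalRing M (E a b)) (hFR : ∀ a b, MemLocalRing M (F a b))
    (hEE : ∀ a c, ∑ b, E a b * E b c = E a c) (hFF : ∀ a c, ∑ b, F a b * F b c = F a c)
    (hEg : ∀ a b, E (φ g a) (φ g b) = E a b) (hFg : ∀ a b, F (φ g a) (φ g b) = F a b)
    (hFs : ∀ a b, F a b ≠ 0 → φ x a = a ∧ φ x b = b)
    (hEF : ∀ a b, φ x a = a → φ x b = b → MemLocalIdeal M (E a b - F a b)) :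
    ∑ a, E a (φ g a) = ∑ a, F a (φ g a) := by
  set E' : Matrix Y Y (locRing hM) := Matrix.of fun a b => ⟨E a b, hER a b⟩ with hE'
  set F' : Matrix Y Y (locRing hM) := Matrix.of fun a b => ⟨F a b, hFR a b⟩ with hF'
  have key := trace_eq_of_cg hM φ hx E' F' ?_ ?_ ?_ ?_ ?_ ?_ ?_
  · rw [trace_pm_mul, trace_pm_mul] at key
    have h1 := congrArg (locRing hM).subtype key
    rw [map_sum, map_sum] at h1
    exact h1
  · ext a c
    rw [Matrix.mul_apply]
    have h1 := hEE a c
    have h2 : (((∑ b, E' a b * E' b c : locRing hM)) : ℂ) = ∑ b, E a b * E b c :=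
      map_sum (locRing hM).subtype _ _
    change (((∑ b, E' a b * E' b c : locRing hM)) : ℂ) = E a c
    rw [h2, h1]
  · ext a c
    rw [Matrix.mul_apply]
    have h1 := hFF a c
    have h2 : (((∑ b, F' a b * F' b c : locRing hM)) : ℂ) = ∑ b, F a b * F b c :=
      map_sum (locRing hM).subtype _ _
    change (((∑ b, F' a b * F' b c : locRing hM)) : ℂ) = F a c
    rw [h2, h1]
  · exact pm_comm fun a b => Subtype.ext (hEg a b)
  · exact pm_comm fun a b => Subtype.ext (hFg a b)
  · ext a b
    rw [fixMat, Matrix.diagonal_mul]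
    by_cases h : φ x a = a
    · rw [if_pos h, one_mul]
    · rw [if_neg h, zero_mul]
      by_contra h1
      exact h (hFs a b fun h2 => h1 h2.symm).1
  · ext a b
    rw [fixMat, Matrix.mul_diagonal]
    by_cases h : φ x b = b
    · rw [if_pos h, mul_one]
    · rw [if_neg h, mul_zero]
      by_contra h1
      exact h (hFs a b fun h2 => h1 h2.symm).2
  · rw [cg_iff]
    intro a b
    rw [fixMat, Matrix.mul_diagonal, Matrix.diagonal_mul]
    by_cases ha : φ x a = a
    · by_cases hb : φ x b = b
      · rw [if_pos ha, if_pos hb, one_mul, mul_one]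
        exact hEF a b ha hb
      · rw [if_neg hb, mul_zero]
        have h1 : F a b = 0 := by
          by_contra h2
          exact hb (hFs a b h2).2
        change MemLocalIdeal M ((0 : ℂ) - F a b)
        rw [h1, sub_zero]
        exact memLocalIdeal_zero hM
    · rw [if_neg ha, zero_mul, zero_mul]
      have h1 : F a b = 0 := by
        by_contra h2
        exact ha (hFs a b h2).1
      change MemLocalIdeal M ((0 : ℂ) - F a b)
      rw [h1, sub_zero]
      exact memLocalIdeal_zero hM

end main

section char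

universe u

variable {B : Type u} [Group B]

/-- The trace of a representation on the image of a commuting idempotent is a character. -/
theorem isCharacter_trace_idem {V : Type*} [AddCommGroup V] [Module ℂ V] [FiniteDimensional ℂ V]
    (ρ : Representation ℂ B V) (e : V →ₗ[ℂ] V) (he : e ∘ₗ e = e)
    (hc : ∀ g, e ∘ₗ ρ g = ρ g ∘ₗ e) : IsCharacter B fun g => LinearMap.trace ℂ V (e ∘ₗ ρ g) := by
  let U : Subrepresentation ρ :=
    { toSubmodule := LinearMap.range e
      apply_mem_toSubmodule := by
        rintro g _ ⟨w, rfl⟩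
        exact ⟨ρ g w, LinearMap.congr_fun (hc g) w⟩ }
  have h1 := Cfsg.Agent.Characters.Core.isCharacter_of_rep U.toRepresentation
  have h2 : U.toRepresentation.character = fun g => LinearMap.trace ℂ V (e ∘ₗ ρ g) := by
    funext g
    have h3 : e ∘ₗ ρ g = (LinearMap.range e).subtype ∘ₗ (e.rangeRestrict ∘ₗ ρ g) := by
      ext v; rfl
    rw [h3, LinearMap.trace_comp_comm']
    change LinearMap.trace ℂ _ (U.toRepresentation g) = _
    congr 1
    refine LinearMap.ext fun v => Subtype.ext ?_
    obtain ⟨_, ⟨w, rfl⟩⟩ := v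
    change ρ g (e w) = e (ρ g (e w))
    have h4 : ρ g (e w) = e (ρ g w) := (LinearMap.congr_fun (hc g) w).symm
    rw [h4]
    exact (LinearMap.congr_fun he _).symm
  rwa [h2] at h1

variable {Y : Type*} [Fintype Y] [DecidableEq Y]

/-- The permutation representation in matrix form. -/
noncomputable def permRep (φ : B →* Equiv.Perm Y) : Representation ℂ B (Y → ℂ) where
  toFun g := Matrix.toLin' (pm ℂ (φ g))
  map_one' := by
    have h1 : pm ℂ (φ (1 : B)) = 1 := by
      ext a b
      rw [pm_apply, map_one, Matrix.one_apply]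
      rfl
    rw [h1, Matrix.toLin'_one]
    rfl
  map_mul' g h := by
    have h1 : pm ℂ (φ (g * h)) = pm ℂ (φ g) * pm ℂ (φ h) := by
      ext a b
      rw [mul_pm_apply, pm_apply, pm_apply, map_mul]
      rfl
    rw [h1, Matrix.toLin'_mul]
    rfl

/-- The trace of a permutation action on the image of a commuting idempotent matrix. -/
theorem isCharacter_sum_perm (φ : B →* Equiv.Perm Y) (E : Y → Y → ℂ)
    (hEE : ∀ a c, ∑ b, E a b * E b c = E a c) (hE : ∀ g a b, E (φ g a) (φ g b) = E a b) :
    IsCharacter B fun g => ∑ a, E a (φ g a) := by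
  set E' : Matrix Y Y ℂ := Matrix.of E with hE'
  have hEE' : E' * E' = E' := by
    ext a c
    rw [Matrix.mul_apply]
    exact hEE a c
  have h1 := isCharacter_trace_idem (permRep φ) (Matrix.toLin' E')
    (by rw [← Matrix.toLin'_mul, hEE'])
    (fun g => by
      change Matrix.toLin' E' ∘ₗ Matrix.toLin' (pm ℂ (φ g)) =
        Matrix.toLin' (pm ℂ (φ g)) ∘ₗ Matrix.toLin' E'
      rw [← Matrix.toLin'_mul, ← Matrix.toLin'_mul, pm_comm (E := E') (hE g)])
  have h2 : (fun g => LinearMap.trace ℂ (Y → ℂ) (Matrix.toLin' E' ∘ₗ permRep φ g)) =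
      fun g => ∑ a, E a (φ g a) := by
    funext g
    change LinearMap.trace ℂ (Y → ℂ) (Matrix.toLin' E' ∘ₗ Matrix.toLin' (pm ℂ (φ g))) = _
    rw [← Matrix.toLin'_mul, Matrix.trace_toLin'_eq]
    exact Finset.sum_congr rfl fun a _ => mul_pm_apply (φ g) E' a a
  rwa [h2] at h1

/-- Averaging over a group `N` commuting with `B`. -/
theorem isCharacter_avg {N : Type*} [Group N] [Fintype N] (φN : N →* Equiv.Perm Y)
    (φ : B →* Equiv.Perm Y) (hcomm : ∀ n g a, φN n (φ g a) = φ g (φN n a)) (E : Y → Y → ℂ)
    (hEE : ∀ a c, ∑ b, E a b * E b c = E a c) (hN : ∀ n a b, E (φN n a) (φN n b) = E a b)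
    (hE : ∀ g a b, E (φ g a) (φ g b) = E a b) :
    IsCharacter B fun g => (Nat.card N : ℂ)⁻¹ * ∑ n, ∑ a, E a (φN n (φ g a)) := by
  have hne : (Nat.card N : ℂ) ≠ 0 := Nat.cast_ne_zero.2 Nat.card_pos.ne'
  have h1 := isCharacter_sum_perm φ (fun a b => (Nat.card N : ℂ)⁻¹ * ∑ n, E a (φN n b)) ?_ ?_
  · convert h1 using 2 with g
    rw [← Finset.mul_sum, Finset.sum_comm]
  · intro a c
    have h2 : ∀ n m, ∑ b, E a (φN n b) * E b (φN m c) = E a (φN (n * m) c) := by
      intro n m
      rw [← hEE a (φN (n * m) c),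
        ← Equiv.sum_comp (φN n) (fun b => E a b * E b (φN (n * m) c))]
      refine Finset.sum_congr rfl fun b _ => ?_
      have h4 : φN (n * m) c = φN n (φN m c) := by rw [map_mul]; rfl
      rw [h4, hN]
    have h3 : ∑ b, ((Nat.card N : ℂ)⁻¹ * ∑ n, E a (φN n b)) *
        ((Nat.card N : ℂ)⁻¹ * ∑ m, E b (φN m c)) =
        (Nat.card N : ℂ)⁻¹ * (Nat.card N : ℂ)⁻¹ * ∑ n, ∑ m, ∑ b, E a (φN n b) * E b (φN m c) := by
      have h5 : ∑ n, ∑ m, ∑ b, E a (φN n b) * E b (φN m c) =
          ∑ b, (∑ n, E a (φN n b)) * ∑ m, E b (φN m c) := by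
        rw [Finset.sum_congr rfl fun n _ => Finset.sum_comm, Finset.sum_comm]
        refine Finset.sum_congr rfl fun b _ => ?_
        rw [Finset.sum_mul]
        exact Finset.sum_congr rfl fun n _ => by rw [Finset.mul_sum]
      rw [h5, Finset.mul_sum]
      refine Finset.sum_congr rfl fun b _ => ?_
      ring
    rw [h3]
    have h4 : ∀ n, ∑ m, ∑ b, E a (φN n b) * E b (φN m c) = ∑ m, E a (φN m c) := by
      intro n
      rw [← Equiv.sum_comp (Equiv.mulLeft n) (fun m => E a (φN m c))]
      exact Finset.sum_congr rfl fun m _ => h2 n m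
    rw [Finset.sum_congr rfl fun n _ => h4 n, Finset.sum_const, Finset.card_univ,
      ← Nat.card_eq_fintype_card, nsmul_eq_mul]
    field_simp
  · intro g a b
    congr 1
    refine Finset.sum_congr rfl fun n _ => ?_
    rw [hcomm, hE]

end char

end Cfsg.Agent.H651
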