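import Cfsg.Agent.H802.FusAlp
import Cfsg.Agent.H649.ConjPair

/-!
# Fusion systems all of whose automorphism groups are `p`-groups; fixed pairs (helper651)
-/

set_option autoImplicit false

open Cfsg

namespace Cfsg.Agent.H651

section fusion

open Cfsg.FusionSystem

variable {Ω : Type*} [Group Ω] {S : Subgroup Ω}

/-- A saturated fusion system in which every automorphism group is a `p`-group is the inner one. -/
theorem hom_eq_inner_of_isPGroup {p : ℕ} [Fact p.Prime] [Finite S] (hS : IsPGroup p S)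
    {F : FusionSystem S} (hF : F.IsSaturated p)
    (h : ∀ Q : Subgroup Ω, Q ≤ S → IsPGroup p (F.autGroup Q)) (P : Subgroup Ω) :
    F.Hom P = (innerFusionSystem S).Hom P := by
  apply Set.Subset.antisymm
  · refine Cfsg.Agent.H802.le_of_autGroup_le hS hF (innerFusionSystem S) ?_ P
    intro Q hQ _
    have hQS : Q ≤ S := hQ.1
    obtain ⟨_, R, hR⟩ := Cfsg.Agent.H802.isFullyAutomized_of_isFullyNormalized hS hF hQ
    have hpg := h Q hQS
    have htop : (R : Subgroup (F.autGroup Q)) = ⊤ := by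
      have h1 : IsPGroup p (⊤ : Subgroup (F.autGroup Q)) :=
        hpg.to_subgroup ⊤
      exact (R.is_maximal' h1 le_top).symm
    rw [htop] at hR
    have h2 : F.autGroup Q ≤ autInducedBy S Q := Subgroup.subgroupOf_eq_top.1 hR.symm
    exact h2.trans (Cfsg.Agent.H802.autInducedBy_le_autGroup (innerFusionSystem S) hQS)
  · rintro φ ⟨hP, g, hg, hφ⟩
    have h1 := F.conj_mem (g := g) hP hg
    have h2 : φ = conjHom P g := MonoidHom.ext hφ
    rw [h2]
    exact h1

end fusion

section elements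

variable {G : Type*} [Group G]

/-- If a `p`-regular `x` acts on the subgroup `R` as the element `u` of `p`-power order does, then `x`
centralizes `R`. -/
theorem mem_centralizer_of_conj_eq {p : ℕ} (hp : p.Prime) {R : Subgroup G} {x u : G}
    (hx : ¬ p ∣ orderOf x) (k : ℕ) (hu : u ^ p ^ k = 1)
    (hR : R.map (MulAut.conj x).toMonoidHom ≤ R)
    (h : ∀ z ∈ R, x * z * x⁻¹ = u * z * u⁻¹) : x ∈ Subgroup.centralizer (R : Set G) := by
  have h1 : ∀ n : ℕ, ∀ z ∈ R, x ^ n * z * (x ^ n)⁻¹ ∈ R ∧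
      x ^ n * z * (x ^ n)⁻¹ = u ^ n * z * (u ^ n)⁻¹ := by
    intro n
    induction n with
    | zero => intro z hz; simpa using hz
    | succ n ih =>
      intro z hz
      obtain ⟨ih1, ih2⟩ := ih z hz
      have h2 : x ^ (n + 1) * z * (x ^ (n + 1))⁻¹ = x * (x ^ n * z * (x ^ n)⁻¹) * x⁻¹ := by
        rw [pow_succ']; group
      have h3 : u ^ (n + 1) * z * (u ^ (n + 1))⁻¹ = u * (u ^ n * z * (u ^ n)⁻¹) * u⁻¹ := by
        rw [pow_succ']; group
      rw [h2, h3, ← ih2]
      refine ⟨hR ⟨_, ih1, rfl⟩, h _ ih1⟩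
  have h2 : x ^ p ^ k ∈ Subgroup.centralizer (R : Set G) := by
    rw [Subgroup.mem_centralizer_iff]
    intro z hz
    have h3 := (h1 (p ^ k) z hz).2
    rw [hu] at h3
    have h4 : x ^ p ^ k * z * (x ^ p ^ k)⁻¹ = z := by simpa using h3
    calc z * x ^ p ^ k = (x ^ p ^ k * z * (x ^ p ^ k)⁻¹) * x ^ p ^ k := by rw [h4]
      _ = x ^ p ^ k * z := by group
  have hcop : Nat.Coprime (orderOf x) (p ^ k) :=
    (Nat.Coprime.pow_left k ((Nat.Prime.coprime_iff_not_dvd hp).2 hx)).symm
  obtain ⟨m, hm⟩ := exists_pow_eq_self_of_coprime hcop.symm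
  rw [← hm]
  exact Subgroup.pow_mem _ h2 m

end elements

end Cfsg.Agent.H651
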