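import Cfsg.Agent.H651.LocalPair
import Cfsg.Agent.Blocks.PPart
import Cfsg.Agent.Blocks.BlockPart

/-!
# The Broué–Puig star construction: definitions (helper651)

* `pp p g`: the `p`-part of `g`;
* `chiE b χ g = χ(ê g)`, `ê` the idempotent of the block `b.2` of `C_G(b.1)`;
* `starW p M w χ g = ∑ f, w g_p (⟨g_p⟩, f) * χ(f̂ g)`, the sum over the blocks `f` of `C_G(g_p)`;
* `IsWeight p M w`: `w u b` (`b.1 = ⟨u⟩`) is invariant under conjugation and for each Brauer pair `(T, e)` the
  function `u ↦ w u (⟨u⟩, e_u)`, `(⟨u⟩, e_u) ≤ (T, e)`, is a generalized character of `T`;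
* `IsStable p M P e η`: `η` is stable in the fusion system of the block on `(P, e)`;
* `etaW p M P e η u b`: the value of `η` at the conjugates of `u` taking `b` below `(P, e)`;
* `star p M P e η χ = starW p M (etaW p M P e η) χ`.
-/

set_option autoImplicit false

open Cfsg

namespace Cfsg.Agent.H651

open Cfsg.Agent.H649

universe u

variable {G : Type u} [Group G]

/-- The `p`-part of an element. -/
noncomputable def pp (p : ℕ) (g : G) : G := by
  classical exact if h : ∃ x, IsPPart p g x then h.choose else 1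

theorem isPPart_pp [Finite G] (p : ℕ) [Fact p.Prime] (g : G) : IsPPart p g (pp p g) := by
  classical
  have h := Cfsg.Agent.Blocks.PPart.exists_isPPart p g
  have h2 : pp p g = h.choose := dif_pos h
  rw [h2]
  exact h.choose_spec

theorem pp_eq [Finite G] {p : ℕ} [Fact p.Prime] {g x : G} (h : IsPPart p g x) : pp p g = x :=
  Cfsg.Agent.Blocks.PPart.isPPart_unique (isPPart_pp p g) h

theorem pp_mul [Finite G] {p : ℕ} [Fact p.Prime] {u s : G} (hus : Commute u s)
    (hu : ∃ k : ℕ, orderOf u = p ^ k) (hs : ¬ p ∣ orderOf s) : pp p (u * s) = u :=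
  pp_eq (Cfsg.Agent.Blocks.PPart.isPPart_mul hus hu hs)

theorem pp_conj [Finite G] (p : ℕ) [Fact p.Prime] (g c : G) :
    pp p (c * g * c⁻¹) = c * pp p g * c⁻¹ :=
  pp_eq (Cfsg.Agent.Blocks.PPart.isPPart_conj (isPPart_pp p g) c)

/-- The coefficients of the idempotent of the block of a pair, as a function on `G`. -/
noncomputable def cfE (b : BrauerPairIdx G) : G → ℂ :=
  subgroupBlockCoeff (Subgroup.centralizer (b.1 : Set G)) b.2

/-- `χ(ê g)`, with `ê` the idempotent of the block `b.2` of `C_G(b.1)`. -/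
noncomputable def chiE (b : BrauerPairIdx G) (χ : G → ℂ) (g : G) : ℂ :=
  ∑ᶠ k : G, cfE b k * χ (k * g)

theorem chiE_eq_sum [Fintype G] (b : BrauerPairIdx G) (χ : G → ℂ) (g : G) :
    chiE b χ g = ∑ k : G, cfE b k * χ (k * g) := finsum_eq_sum_of_fintype _

theorem cfE_of_mem (b : BrauerPairIdx G) {g : G} (h : g ∈ Subgroup.centralizer (b.1 : Set G)) :
    cfE b g = blockCoeff b.2 ⟨g, h⟩ := subgroupBlockCoeff_of_mem _ _ h

theorem cfE_of_notMem (b : BrauerPairIdx G) {g : G}
    (h : g ∉ Subgroup.centralizer (b.1 : Set G)) : cfE b g = 0 :=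
  subgroupBlockCoeff_of_notMem _ _ h

theorem cfE_coe (b : BrauerPairIdx G) (g : Subgroup.centralizer (b.1 : Set G)) :
    cfE b (g : G) = blockCoeff b.2 g := subgroupBlockCoeff_coe _ _ g

theorem chiE_eq_sum_centralizer [Finite G] (b : BrauerPairIdx G)
    [Fintype (Subgroup.centralizer (b.1 : Set G))] (χ : G → ℂ) (g : G) :
    chiE b χ g = ∑ k : Subgroup.centralizer (b.1 : Set G), blockCoeff b.2 k * χ (k * g) := by
  classical
  have := Fintype.ofFinite G
  rw [chiE_eq_sum]
  refine (Finset.sum_of_injOn (fun k : Subgroup.centralizer (b.1 : Set G) => (k : G))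
    (Subtype.val_injective.injOn) (fun _ _ => Finset.mem_coe.2 (Finset.mem_univ _)) ?_ ?_).symm
  · intro k _ hk
    rw [cfE_of_notMem b (fun h => hk ⟨⟨k, h⟩, Finset.mem_coe.2 (Finset.mem_univ _), rfl⟩),
      zero_mul]
  · intro k _
    rw [cfE_coe]

theorem cfE_conjIdx (x : G) (b : BrauerPairIdx G) (g : G) :
    cfE (conjIdx x b) (x * g * x⁻¹) = cfE b g := by
  have h := subgroupBlockCoeff_map (MulAut.conj x) b.1 b.2 g
  rwa [MulAut.conj_apply] at h

theorem cfE_conjIdx' (x : G) (b : BrauerPairIdx G) (g : G) :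
    cfE (conjIdx x b) g = cfE b (x⁻¹ * g * x) := by
  rw [← cfE_conjIdx x b (x⁻¹ * g * x)]
  congr 1
  group

/-- For a class function `χ`, `chiE` is invariant under conjugation. -/
theorem chiE_conjIdx [Finite G] (x : G) (b : BrauerPairIdx G) {χ : G → ℂ}
    (hχ : IsClassFunction G χ) (g : G) : chiE (conjIdx x b) χ (x * g * x⁻¹) = chiE b χ g := by
  classical
  have := Fintype.ofFinite G
  rw [chiE_eq_sum, chiE_eq_sum]
  refine (Fintype.sum_equiv (MulAut.conj x).toEquiv _ _ fun k => ?_).symm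
  change cfE b k * χ (k * g) = cfE (conjIdx x b) (x * k * x⁻¹) * χ (x * k * x⁻¹ * (x * g * x⁻¹))
  rw [cfE_conjIdx]
  have h : x * k * x⁻¹ * (x * g * x⁻¹) = x * (k * g) * x⁻¹ := by group
  rw [h, hχ]

/-- For `u` with centralizer `C = C_G(⟨u⟩)`, a block `f` of `C` and `s ∈ C`: `chiE` is the `f`-part
of `c ↦ χ (u c)` at `s`. -/
theorem chiE_zpowers [Finite G] (u : G)
    (f : Set (IrrCharacter (Subgroup.centralizer ((Subgroup.zpowers u : Subgroup G) : Set G))))
    {χ : G → ℂ} (hχ : IsClassFunction G χ)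
    (s : Subgroup.centralizer ((Subgroup.zpowers u : Subgroup G) : Set G)) :
    chiE ⟨Subgroup.zpowers u, f⟩ χ (u * s) = blockPart f
      (fun c : Subgroup.centralizer ((Subgroup.zpowers u : Subgroup G) : Set G) =>
        χ (u * c)) s := by
  classical
  have := Fintype.ofFinite G
  have hcomm : ∀ c : Subgroup.centralizer ((Subgroup.zpowers u : Subgroup G) : Set G),
      u * (c : G) = c * u := fun c =>
    Subgroup.mem_centralizer_iff.1 c.2 u (Subgroup.mem_zpowers u)
  rw [Cfsg.Agent.Blocks.BlockPart.blockPart_eq_sum, chiE_eq_sum_centralizer]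
  · refine Finset.sum_congr rfl fun k _ => ?_
    congr 2
    change (k : G) * (u * s) = u * (k * s)
    rw [← mul_assoc, ← hcomm, mul_assoc]
  · intro g h
    have h1 : u * ((h * g * h⁻¹ : Subgroup.centralizer ((Subgroup.zpowers u : Subgroup G) :
        Set G)) : G) = h * (u * g) * (h : G)⁻¹ := by
      change u * ((h : G) * g * (h : G)⁻¹) = _
      rw [← mul_assoc, ← mul_assoc, hcomm h]
      simp only [mul_assoc]
    change χ (u * _) = χ (u * g)
    rw [h1, hχ]

/-- The blocks of `C_G(Q)`, as pairs. -/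
def blkPairs (M : Ideal AlgInt) (Q : Subgroup G) : Set (BrauerPairIdx G) :=
  {b | b.1 = Q ∧ IsPBlock M b.2}

/-- The star construction with an abstract weight. -/
noncomputable def starW (p : ℕ) (M : Ideal AlgInt) (w : G → BrauerPairIdx G → ℂ)
    (χ : G → ℂ) (g : G) : ℂ :=
  ∑ᶠ b ∈ blkPairs M (Subgroup.zpowers (pp p g)), w (pp p g) b * chiE b χ g

/-- Abstract weights: invariant under conjugation, and `u ↦ w u (⟨u⟩, e_u)` with
`(⟨u⟩, e_u) ≤ (T, e)` is a generalized character of `T`, for all Brauer pairs `(T, e)`. -/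
def IsWeight (p : ℕ) (M : Ideal AlgInt) (w : G → BrauerPairIdx G → ℂ) : Prop :=
  (∀ (x u : G) (b : BrauerPairIdx G), b.1 = Subgroup.zpowers u →
      w (x * u * x⁻¹) (conjIdx x b) = w u b) ∧
    ∀ a : BrauerPairIdx G, IsBrauerPair p M a.1 a.2 →
      ∃ θ : a.1 → ℂ, IsGeneralizedCharacter a.1 θ ∧
        ∀ (u : a.1) (b : BrauerPairIdx G), b.1 = Subgroup.zpowers (u : G) → IsPBlock M b.2 →
          LEIdx p M b a → w u b = θ u

/-- `η` is stable in the fusion system of the block on the pair `(P, e)`. -/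
def IsStable (p : ℕ) (M : Ideal AlgInt) (a : BrauerPairIdx G) (η : G → ℂ) : Prop :=
  ∀ (u x : G) (b : BrauerPairIdx G), u ∈ a.1 → b.1 = Subgroup.zpowers u → LEIdx p M b a →
    LEIdx p M (conjIdx x b) a → η (x * u * x⁻¹) = η u

/-- The weight attached to a stable function. -/
noncomputable def etaW (p : ℕ) (M : Ideal AlgInt) (a : BrauerPairIdx G) (η : G → ℂ)
    (u : G) (b : BrauerPairIdx G) : ℂ := by
  classical exact if h : ∃ x, LEIdx p M (conjIdx x b) a then η (h.choose * u * h.choose⁻¹) else 0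

/-- The star construction `η * χ`, for the maximal pair `a = (P, e)`. -/
noncomputable def star (p : ℕ) (M : Ideal AlgInt) (a : BrauerPairIdx G) (η χ : G → ℂ) :
    G → ℂ := starW p M (etaW p M a η) χ

theorem etaW_eq_zero {p : ℕ} {M : Ideal AlgInt} {a : BrauerPairIdx G} {η : G → ℂ} {u : G}
    {b : BrauerPairIdx G} (h : ¬ ∃ x, LEIdx p M (conjIdx x b) a) : etaW p M a η u b = 0 := by
  classical
  exact dif_neg h

theorem etaW_eq {p : ℕ} {M : Ideal AlgInt} {a : BrauerPairIdx G} {η : G → ℂ}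
    (hη : IsStable p M a η) {u x : G} {b : BrauerPairIdx G} (hb : b.1 = Subgroup.zpowers u)
    (h : LEIdx p M (conjIdx x b) a) : etaW p M a η u b = η (x * u * x⁻¹) := by
  classical
  have hex : ∃ x, LEIdx p M (conjIdx x b) a := ⟨x, h⟩
  have h0 : etaW p M a η u b = η (hex.choose * u * hex.choose⁻¹) := dif_pos hex
  rw [h0]
  have h1 : (conjIdx x b).1 = Subgroup.zpowers (x * u * x⁻¹) := by
    rw [conjIdx_fst, hb, MonoidHom.map_zpowers]
    rfl
  have h2 : x * u * x⁻¹ ∈ a.1 := LEIdx.le h (by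
    rw [h1]; exact Subgroup.mem_zpowers _)
  have h3 := hη (x * u * x⁻¹) (hex.choose * x⁻¹) (conjIdx x b) h2 h1 h (by
    rw [conjIdx_conjIdx, inv_mul_cancel_right]
    exact hex.choose_spec)
  rw [← h3]
  congr 1
  group

theorem etaW_conj {p : ℕ} {M : Ideal AlgInt} {a : BrauerPairIdx G} {η : G → ℂ}
    (hη : IsStable p M a η) (x u : G) {b : BrauerPairIdx G} (hb : b.1 = Subgroup.zpowers u) :
    etaW p M a η (x * u * x⁻¹) (conjIdx x b) = etaW p M a η u b := by
  by_cases h : ∃ y, LEIdx p M (conjIdx y b) a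
  · obtain ⟨y, hy⟩ := h
    rw [etaW_eq hη hb hy, etaW_eq (x := y * x⁻¹) hη]
    · congr 1
      group
    · rw [conjIdx_fst, hb, MonoidHom.map_zpowers]
      rfl
    · rw [conjIdx_conjIdx, inv_mul_cancel_right]
      exact hy
  · rw [etaW_eq_zero h, etaW_eq_zero]
    rintro ⟨y, hy⟩
    rw [conjIdx_conjIdx] at hy
    exact h ⟨_, hy⟩

end Cfsg.Agent.H651
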